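import Cfsg.Agent.H465.SK.Odd
import Cfsg.Agent.H253.SK.OddSmall
import Cfsg.Agent.H731.SK.Rows

/-!
# S3010 (Sidki): the row of odd characteristic (helper465)
-/

set_option autoImplicit false
set_option linter.unusedSectionVars false
set_option linter.style.haveILetI false

universe u

namespace Cfsg.Agent.H465.SK

open Subgroup Cfsg Cfsg.Agent.H282.SK

/-- `PSL₂(8)` is a row of even characteristic -/
theorem pslEven_of_eight {K : Type u} [Group K] {F : Type} [iF : Field F] [iT : Fintype F] (hF : Fintype.card F = 8)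
    (e : Nonempty (K ≃* Matrix.ProjectiveSpecialLinearGroup (Fin 2) F)) : H731.SK.PslEven K := by
  haveI : Fact (Nat.Prime 2) := ⟨Nat.prime_two⟩
  exact ⟨F, iF, iT, H253.SK.OddSmall.charP_of (p := 2) (n := 3) (by rw [hF]; norm_num), 2, le_rfl,
    fun _ => by rw [hF]; norm_num, e⟩

/-- **S3010, odd characteristic.** -/
theorem dead_odd (p : ℕ) (hp : p.Prime) (hp2 : p ≠ 2) :
    DeadS.{u} fun K _ => IsLieTypeChar p K ∧ ¬ H731.SK.PslEven K := by
  intro G _ _ V K h hK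
  haveI : Fact p.Prime := ⟨hp⟩
  have key : (∃ v ∈ V, v ≠ 1 ∧ ∃ y ∈ K, y ≠ 1 ∧ (∃ n : ℕ, y ^ p ^ n = 1) ∧ v * y = y * v) → False := by
    rintro ⟨v, hv, hv1, y, -, hy1, hyp, hc⟩
    exact Cx.no_p h hp2 hK.1 hv hv1 hy1 hyp hc
  rcases Cx.odd_cases h hp2 hK.1 with h1 | h1 | h1 | ⟨F, i1, i2, hF, e⟩
  · exact key (H253.SK.OddSmall.exists_comm' h hp2 (Or.inl h1))
  · exact key (H253.SK.OddSmall.exists_comm' h hp2 (Or.inr (Or.inl h1)))
  · exact key (H253.SK.OddSmall.exists_comm' h hp2 (Or.inr (Or.inr h1)))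
  · exact hK.2 (pslEven_of_eight hF e)

end Cfsg.Agent.H465.SK
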