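import Cfsg.Agent.H465.SK.OddCore
import Cfsg.Agent.H282.SK.Def
import Cfsg.Agent.H400.LieLocal
import Cfsg.Agent.S4613

/-!
# S3010 (Sidki), odd characteristic: the hypotheses of the abstract argument (helper465)

`Cx V K` with `K` of Lie type of odd characteristic `p`: `NoCent p K`, `HasQ p K`, `T1 V`; hence no involution of `V`
centralises a nontrivial `p`-element of `K` (`Cx.no_p`), and it is enough to find an involution of `V` with
`p ∣ |C_K(v)|` (`Cx.false_of_dvd`).
-/

set_option autoImplicit false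
set_option linter.unusedSectionVars false
set_option linter.style.haveILetI false

universe u

namespace Cfsg.Agent.H465.SK

open Subgroup Cfsg Cfsg.Agent.H282.SK

section

variable {G : Type*} [Group G] [Finite G] {K V : Subgroup G} {p : ℕ} [hp : Fact p.Prime]

/-- conjugation by a suitable element preserves the `p`-core of the normaliser of `⟨x⟩` in `K` -/
theorem hasQ_of_locChar (hK : K.Normal) (h : BpLieP.Big.LocChar p K) : HasQ p K := by
  intro x hx hx1 hxp
  obtain ⟨k, hk⟩ := hxp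
  let x' : K := ⟨x, hx⟩
  have hZp : IsPGroup p (zpowers x') := by
    rintro ⟨y, i, rfl⟩
    refine ⟨k, Subtype.ext ?_⟩
    show (x' ^ i) ^ p ^ k = 1
    have h1 : x' ^ p ^ k = 1 := Subtype.ext hk
    rw [← zpow_natCast, ← zpow_mul, mul_comm, zpow_mul, zpow_natCast, h1, one_zpow]
  have hZ1 : zpowers x' ≠ ⊥ := by
    rw [Ne, zpowers_eq_bot]
    exact fun h => hx1 (congrArg Subtype.val h)
  obtain ⟨N, hN⟩ : ∃ N : Subgroup K, N = normalizer ((zpowers x' : Subgroup K) : Set K) := ⟨_, rfl⟩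
  have hloc := h (zpowers x') hZp hZ1
  rw [← hN] at hloc
  have hZN : zpowers x' ≤ N := hN ▸ le_normalizer
  let Q' : Subgroup K := (pCore p N).map N.subtype
  have hQ'p : IsPGroup p Q' := (Lib.Cores.pCore_isPGroup p).map _
  have hxQ' : x' ∈ Q' := by
    have h1 : (zpowers x').subgroupOf N ≤ pCore p N := by
      refine Lib.Cores.le_pCore ?_ ?_
      · rw [hN]
        infer_instance
      · exact hZp.comap_of_injective N.subtype N.subtype_injective
    exact ⟨⟨x', hZN (mem_zpowers x')⟩, h1 (mem_subgroupOf.2 (mem_zpowers x')), rfl⟩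
  -- `Q'` contains the `p`-subgroups of `N` normalised by `N`
  have hmax : ∀ R : Subgroup K, R ≤ N → IsPGroup p R → (∀ n ∈ N, ∀ r ∈ R, n * r * n⁻¹ ∈ R) → R ≤ Q' := by
    intro R hRN hR hRn r hr
    have h1 : R.subgroupOf N ≤ pCore p N := by
      refine Lib.Cores.le_pCore ⟨fun n hn g => ?_⟩ (hR.comap_of_injective N.subtype N.subtype_injective)
      rw [mem_subgroupOf] at hn ⊢
      exact hRn g g.2 n hn
    exact ⟨⟨r, hRN hr⟩, h1 (mem_subgroupOf.2 hr), rfl⟩
  have hQ'n : ∀ n ∈ N, ∀ q ∈ Q', n * q * n⁻¹ ∈ Q' := by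
    rintro n hn _ ⟨q, hq, rfl⟩
    exact ⟨⟨n, hn⟩ * q * (⟨n, hn⟩ : N)⁻¹, (Lib.Cores.pCore_normal p).conj_mem q hq ⟨n, hn⟩, rfl⟩
  refine ⟨Q'.map K.subtype, map_subtype_le _, hQ'p.map _, ⟨x', hxQ', rfl⟩, ?_, ?_⟩
  · intro g hgK hgc
    have h1 : (⟨g, hgK⟩ : K) ∈ N := by
      rw [hN, mem_normalizer_iff]
      intro y
      have h2 : (⟨g, hgK⟩ : K) * x' = x' * ⟨g, hgK⟩ := Subtype.ext (hgc x ⟨x', hxQ', rfl⟩)
      have h3 : ∀ y ∈ zpowers x', (⟨g, hgK⟩ : K) * y * (⟨g, hgK⟩ : K)⁻¹ = y := by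
        rintro _ ⟨i, rfl⟩
        have h4 : Commute (⟨g, hgK⟩ : K) (x' ^ i) := (show Commute _ x' from h2).zpow_right i
        show (⟨g, hgK⟩ : K) * x' ^ i * (⟨g, hgK⟩ : K)⁻¹ = x' ^ i
        rw [h4.eq, mul_inv_cancel_right]
      constructor
      · intro hy
        rw [h3 y hy]
        exact hy
      · intro hy
        have h5 : (⟨g, hgK⟩ : K)⁻¹ * ((⟨g, hgK⟩ : K) * y * (⟨g, hgK⟩ : K)⁻¹) * ⟨g, hgK⟩ =
            (⟨g, hgK⟩ : K) * y * (⟨g, hgK⟩ : K)⁻¹ := by
          have h6 := h3 _ hy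
          rw [mul_inv_eq_iff_eq_mul] at h6
          rw [mul_assoc, ← h6, inv_mul_cancel_left]
        have h7 : y = (⟨g, hgK⟩ : K) * y * (⟨g, hgK⟩ : K)⁻¹ := by
          rw [← h5]; group
        rw [h7]
        exact hy
    have h2 : (⟨⟨g, hgK⟩, h1⟩ : N) ∈ centralizer (pCore p N : Set N) := by
      rw [mem_centralizer_iff]
      intro q hq
      refine Subtype.ext (Subtype.ext ?_)
      exact (hgc _ ⟨q, ⟨q, hq, rfl⟩, rfl⟩).symm
    exact ⟨⟨g, hgK⟩, ⟨⟨⟨g, hgK⟩, h1⟩, hloc h2, rfl⟩, rfl⟩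
  · intro g hg
    let α : K ≃* K := MulAut.conjNormal g
    have hα : ∀ y : K, ((α y : K) : G) = g * y * g⁻¹ := fun y => MulAut.conjNormal_apply g y
    have hαx : α x' ∈ zpowers x' ∧ α.symm x' ∈ zpowers x' := by
      rcases hg with hg | hg
      · have h1 : α x' = x' := Subtype.ext ((hα x').trans hg)
        refine ⟨by rw [h1]; exact mem_zpowers x', ?_⟩
        have h2 : α.symm x' = x' := α.symm_apply_eq.2 h1.symm
        rw [h2]
        exact mem_zpowers x'
      · have h1 : α x' = x'⁻¹ := Subtype.ext ((hα x').trans hg)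
        refine ⟨by rw [h1]; exact inv_mem (mem_zpowers x'), ?_⟩
        have h2 : α.symm x' = x'⁻¹ := α.symm_apply_eq.2 (by rw [map_inv, h1, inv_inv])
        rw [h2]
        exact inv_mem (mem_zpowers x')
    have hαZ : ∀ y ∈ zpowers x', α y ∈ zpowers x' := by
      rintro _ ⟨i, rfl⟩
      show α (x' ^ i) ∈ _
      rw [map_zpow]
      exact zpow_mem hαx.1 i
    have hαZ' : ∀ y ∈ zpowers x', α.symm y ∈ zpowers x' := by
      rintro _ ⟨i, rfl⟩
      show α.symm (x' ^ i) ∈ _
      rw [map_zpow]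
      exact zpow_mem hαx.2 i
    have hαN : ∀ n ∈ N, α n ∈ N := by
      intro n hn
      rw [hN, mem_normalizer_iff] at hn ⊢
      intro y
      have h1 := hn (α.symm y)
      constructor
      · intro hy
        have h2 := hαZ _ (h1.1 (hαZ' y hy))
        rwa [map_mul, map_mul, map_inv, α.apply_symm_apply] at h2
      · intro hy
        have h2 := hαZ' _ hy
        rw [map_mul, map_mul, map_inv, α.symm_apply_apply] at h2
        have h3 := hαZ _ (h1.2 h2)
        rwa [α.apply_symm_apply] at h3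
    have hαN' : ∀ n ∈ N, α.symm n ∈ N := by
      intro n hn
      rw [hN, mem_normalizer_iff] at hn ⊢
      intro y
      have h1 := hn (α y)
      constructor
      · intro hy
        have h2 := hαZ' _ (h1.1 (hαZ y hy))
        rwa [map_mul, map_mul, map_inv, α.symm_apply_apply] at h2
      · intro hy
        have h2 := hαZ _ hy
        rw [map_mul, map_mul, map_inv, α.apply_symm_apply] at h2
        have h3 := hαZ' _ (h1.2 h2)
        rwa [α.symm_apply_apply] at h3
    have h1 : Q'.map α.toMonoidHom ≤ Q' := by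
      apply hmax
      · rintro _ ⟨q, hq, rfl⟩
        exact hαN q (map_subtype_le _ hq)
      · exact hQ'p.map _
      · rintro n hn _ ⟨q, hq, rfl⟩
        refine ⟨α.symm n * q * (α.symm n)⁻¹, hQ'n _ (hαN' n hn) q hq, ?_⟩
        show α (α.symm n * q * (α.symm n)⁻¹) = n * α q * n⁻¹
        rw [map_mul, map_mul, map_inv, α.apply_symm_apply]
    rintro _ ⟨q, hq, rfl⟩
    exact ⟨α q, h1 ⟨q, hq, rfl⟩, hα q⟩

end

section

variable {G : Type u} [Group G] [Finite G] {K V : Subgroup G} {p : ℕ} [hp : Fact p.Prime]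

theorem Cx.toT1 (h : Cx V K) : T1 V := by
  intro v hv x hx1 hxo hvx
  have hv1 : v ≠ 1 := by
    rintro rfl
    apply hx1
    have h1 : x * x = 1 := by
      have h2 : x = x⁻¹ := by simpa using hvx
      nth_rewrite 2 [h2]
      exact mul_inv_cancel x
    have h4 : orderOf x ∣ 2 := orderOf_dvd_of_pow_eq_one (by rw [pow_two, h1])
    rcases (Nat.dvd_prime Nat.prime_two).1 h4 with h5 | h5
    · exact orderOf_eq_one_iff.1 h5
    · rw [h5] at hxo
      exact absurd hxo (by decide)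
  obtain ⟨w, hw, hw1, hwx, hwO⟩ := h.t1 hv hv1 hxo hvx
  exact ⟨w, hw, hw1, (h.comm hw hv).eq, hwx.eq, _, hwO, isPGroup_O2 _, fun c hcv hcx y hy =>
    conj_mem_O2 (mem_inf.2 ⟨mem_centralizer_singleton_iff.2 hcv, mem_centralizer_singleton_iff.2 hcx⟩) hy⟩

theorem Cx.noCent (h : Cx V K) (hp2 : p ≠ 2) (hL : IsLieTypeChar p K) : NoCent p K := by
  intro r hr hr1 P hPK hP hmax
  by_contra hcon
  push Not at hcon
  haveI := h.norm
  haveI := h.simple
  let α : MulAut K := MulAut.conjNormal r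
  have hα : ∀ y : K, ((α y : K) : G) = r * y * r⁻¹ := fun y => MulAut.conjNormal_apply r y
  have hα2 : α ^ 2 = 1 := by
    rw [pow_two, ← map_mul, hr, map_one]
  let U : Sylow p K :=
    { toSubgroup := P.subgroupOf K
      isPGroup' := hP.comap_of_injective K.subtype K.subtype_injective
      is_maximal' := by
        intro Q hQ hle
        have h1 : Q.map K.subtype = P := by
          apply hmax _ _ (map_subtype_le _) (hQ.map _)
          intro y hy
          exact ⟨⟨y, hPK hy⟩, hle (mem_subgroupOf.2 hy), rfl⟩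
        rw [← h1]
        ext y
        rw [mem_subgroupOf]
        constructor
        · intro hy
          exact ⟨y, hy, rfl⟩
        · rintro ⟨z, hz, e⟩
          rwa [← Subtype.ext e] }
  have hα1 : α = 1 := by
    apply S4613.result p hL α _ U
    · intro y hy
      apply Subtype.ext
      rw [hα, hcon _ (mem_subgroupOf.1 hy)]
      group
    · intro hd
      have h1 : orderOf α ∣ 2 := orderOf_dvd_of_pow_eq_one hα2
      have h2 := hd.trans h1
      rcases (Nat.dvd_prime Nat.prime_two).1 h2 with h3 | h3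
      · exact hp.out.one_lt.ne' h3
      · exact hp2 h3
  apply hr1
  apply h.eq_one_of_comm
  intro k hk
  have h1 : r * k * r⁻¹ = k := by
    have h2 := hα ⟨k, hk⟩
    rw [hα1] at h2
    exact h2.symm
  calc r * k = r * k * r⁻¹ * r := by group
    _ = k * r := by rw [h1]

theorem Cx.hasQ (h : Cx V K) (hp2 : p ≠ 2) (hL : IsLieTypeChar p K) : HasQ p K :=
  hasQ_of_locChar h.norm (H400.LieLocal.local_char_of_lie hL fun h => hp2 h.1)

/-- no involution of `V` centralises a nontrivial `p`-element -/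
theorem Cx.no_p (h : Cx V K) (hp2 : p ≠ 2) (hL : IsLieTypeChar p K) {v x : G} (hv : v ∈ V) (hv1 : v ≠ 1)
    (hx1 : x ≠ 1) (hxp : ∃ k : ℕ, x ^ p ^ k = 1) (hvx : v * x = x * v) : False := by
  obtain ⟨k, hk⟩ := hxp
  exact no_centralized h.norm hp2 (Cx.noCent h hp2 hL) (Cx.hasQ h hp2 hL) (fun a ha => h.sq ha)
    (fun a ha b hb => (h.comm ha hb).eq) (Cx.toT1 h) hv hv1 (h.odd_mem (odd_orderOf hp2 hk)) hx1 ⟨k, hk⟩ hvx

/-- it is enough that `p` divides the order of the centraliser of one involution of `V` -/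
theorem Cx.false_of_dvd (h : Cx V K) (hp2 : p ≠ 2) (hL : IsLieTypeChar p K) {v : G} (hv : v ∈ V) (hv1 : v ≠ 1)
    (hd : p ∣ Nat.card (centralizer ({v} : Set G))) : False := by
  obtain ⟨x, hx⟩ := exists_prime_orderOf_dvd_card' p hd
  refine Cx.no_p h hp2 hL hv hv1 (x := (x : G)) ?_ ⟨1, ?_⟩ (mem_centralizer_singleton_iff.1 x.2).symm
  · intro h1
    rw [← Subgroup.orderOf_coe, h1, orderOf_one] at hx
    exact hp.out.one_lt.ne hx
  · rw [pow_one, ← hx, ← Subgroup.orderOf_coe, pow_orderOf_eq_one]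

/-- `V` has a nontrivial element -/
theorem Cx.exists_ne (h : Cx V K) : ∃ v ∈ V, v ≠ 1 := by
  by_contra hcon
  push Not at hcon
  exact h.V_ne_bot (eq_bot_iff.2 fun v hv => mem_bot.2 (hcon v hv))

end

end Cfsg.Agent.H465.SK
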